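import Cfsg.Agent.H700.DM.Defs
import Cfsg.Agent.H681.DegBasic

/-!
# S4907, DM02 (helper150): the Clifford inequality for a character of degree `|G|_p`
-/

set_option autoImplicit false

namespace Cfsg.Agent.H150.DM

open Cfsg Cfsg.Agent.Characters.Core
open Cfsg.Agent.H700.DM

universe u

/-- the inertia group -/
def inertia {G : Type u} [Group G] (M : Subgroup G) [M.Normal] (θ : M → ℂ) : Subgroup G where
  carrier := {g | ∀ n : M, θ (MulAut.conjNormal g n) = θ n}
  mul_mem' := by
    intro a b ha hb n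
    rw [map_mul, MulAut.mul_apply, ha, hb]
  one_mem' := by
    intro n
    rw [map_one, MulAut.one_apply]
  inv_mem' := by
    intro a ha n
    have h := ha (MulAut.conjNormal a⁻¹ n)
    rw [← MulAut.mul_apply, ← map_mul, mul_inv_cancel, map_one, MulAut.one_apply] at h
    exact h.symm

theorem mem_inertia {G : Type u} [Group G] {M : Subgroup G} [M.Normal] {θ : M → ℂ} {g : G} :
    g ∈ inertia M θ ↔ ∀ n : M, θ (MulAut.conjNormal g n) = θ n := Iff.rfl

/-- the conjugates of `θ` -/
theorem isIrr_conj {G : Type u} [Group G] (M : Subgroup G) [M.Normal] {θ : M → ℂ} (hθ : IsIrrCharacter M θ) (g : G) :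
    IsIrrCharacter M (fun n => θ (MulAut.conjNormal g n)) :=
  isIrr_comp (MulAut.conjNormal g).toMonoidHom (MulAut.conjNormal g).surjective hθ

/-- `|G : T| θ(1)² ≤ |M|` -/
theorem index_mul_sq_le {G : Type u} [Group G] [Finite G] (M : Subgroup G) [M.Normal] {θ : M → ℂ}
    (hθ : IsIrrCharacter M θ) {d : ℕ} (hd : θ 1 = d) : (inertia M θ).index * d ^ 2 ≤ Nat.card M := by
  classical
  have := finite_irr (G := M)
  have := Fintype.ofFinite (IrrCharacter M)
  have := Fintype.ofFinite (G ⧸ inertia M θ)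
  let F : G ⧸ inertia M θ → IrrCharacter M := fun q => ⟨_, isIrr_conj M hθ (Quotient.out q)⁻¹⟩
  have hF : Function.Injective F := by
    intro q q' h
    have h1 : ∀ n : M, θ (MulAut.conjNormal (Quotient.out q)⁻¹ n) = θ (MulAut.conjNormal (Quotient.out q')⁻¹ n) :=
      fun n => congrFun (congrArg Subtype.val h) n
    have h2 : (Quotient.out q)⁻¹ * Quotient.out q' ∈ inertia M θ := by
      intro n
      have h3 := h1 (MulAut.conjNormal (Quotient.out q') n)
      rw [← MulAut.mul_apply, ← map_mul, ← MulAut.mul_apply, ← map_mul, inv_mul_cancel, map_one,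
        MulAut.one_apply] at h3
      exact h3
    rw [← QuotientGroup.out_eq' q, ← QuotientGroup.out_eq' q']
    exact QuotientGroup.eq.2 h2
  choose D hD hD' using fun φ : IrrCharacter M => isIrr_apply_one φ.2
  have hsum : ∑ φ : IrrCharacter M, D φ ^ 2 = Nat.card M := by
    have h := Cfsg.Agent.CharDeep.PowerDegrees.sum_sq (G := M)
    simp only [hD'] at h
    exact_mod_cast h
  have hFD : ∀ q, D (F q) = d := by
    intro q
    have h1 := hD' (F q)
    have h2 : (F q : M → ℂ) 1 = θ 1 := by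
      change θ (MulAut.conjNormal (Quotient.out q)⁻¹ 1) = θ 1
      rw [map_one]
    rw [h2, hd] at h1
    exact_mod_cast h1.symm
  rw [← hsum]
  calc (inertia M θ).index * d ^ 2 = ∑ q : G ⧸ inertia M θ, D (F q) ^ 2 := by
        rw [Finset.sum_congr rfl (fun q _ => by rw [hFD q]), Finset.sum_const, Finset.card_univ, smul_eq_mul,
          ← Nat.card_eq_fintype_card]
        rfl
    _ = ∑ φ ∈ Finset.univ.image F, D φ ^ 2 := by rw [Finset.sum_image (fun a _ b _ h => hF h)]
    _ ≤ ∑ φ : IrrCharacter M, D φ ^ 2 :=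
        Finset.sum_le_sum_of_subset_of_nonneg (Finset.subset_univ _) (fun _ _ _ => Nat.zero_le _)

/-- **DM02, the Clifford inequality.** -/
theorem clifford {G : Type u} [Group G] [Finite G] {p : ℕ} [Fact p.Prime] (M : Subgroup G) [M.Normal]
    (h : HasDeg (pt p G) G) :
    ∃ T : Subgroup G, M ≤ T ∧ T.index * Nat.card (G ⧸ M) * pt p G ^ 2 ≤ Nat.card G * pt p (G ⧸ M) ^ 2 ∧
      (T = ⊤ → ∃ (θ : M → ℂ) (χ : G → ℂ), IsIrrCharacter M θ ∧ IsIrrCharacter G χ ∧ charDegree θ = pt p M ∧
        charDegree χ = pt p G ∧ (∀ (g : G) (n : M), θ (MulAut.conjNormal g n) = θ n) ∧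
        ∀ [Fintype M], classInner (fun n : M => χ n) θ ≠ 0) := by
  classical
  obtain ⟨χ, hχ⟩ := h
  have := Fintype.ofFinite G
  have hM := Fintype.ofFinite M
  have hχ1 : (χ : G → ℂ) 1 = (pt p G : ℕ) := by rw [Blocks.Basic.irr_one_eq_charDegree χ.2, hχ]
  obtain ⟨θ, d, hθ, hd, hne, h1, h2⟩ := H681.DegBasic.exists_constituent M χ.2 hχ1
  have hp : p.Prime := Fact.out
  have hcardG : Nat.card G = Nat.card (G ⧸ M) * Nat.card M := M.card_eq_card_quotient_mul_card_subgroup
  have hQ0 : Nat.card (G ⧸ M) ≠ 0 := Nat.card_pos.ne'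
  have hM0 : Nat.card M ≠ 0 := Nat.card_pos.ne'
  have hfac : (Nat.card G).factorization p = (Nat.card (G ⧸ M)).factorization p + (Nat.card M).factorization p := by
    rw [hcardG, Nat.factorization_mul hQ0 hM0, Finsupp.add_apply]
  have hpt : pt p G = pt p (G ⧸ M) * pt p M := by
    unfold pt
    rw [hfac, pow_add]
  -- the degree of `θ`
  obtain ⟨b, hb, rfl⟩ := (Nat.dvd_prime_pow hp).1 h1
  have hdM : p ^ b ∣ Nat.card M := H681.DegBasic.dvd_card
    (H681.DegBasic.mem_charDegrees.2 ⟨θ, hθ, by exact_mod_cast hd⟩)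
  have hb1 : b ≤ (Nat.card M).factorization p := (hp.pow_dvd_iff_le_factorization hM0).1 hdM
  have h3 : p ^ (Nat.card G).factorization p / p ^ b = p ^ ((Nat.card G).factorization p - b) :=
    Nat.pow_div hb hp.pos
  have hb2 : (Nat.card G).factorization p - b ≤ (Nat.card (G ⧸ M)).factorization p := by
    rw [← hp.pow_dvd_iff_le_factorization hQ0, ← h3]
    exact h2
  have hb3 : b = (Nat.card M).factorization p := by omega
  have hdM' : charDegree θ = pt p M := by
    rw [Blocks.Basic.charDegree_of_eq hd, hb3]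
  have h4 := index_mul_sq_le M hθ hd
  rw [hb3] at h4
  refine ⟨inertia M θ, ?_, ?_, ?_⟩
  · intro g hg n
    exact isIrr_isClassFunction hθ n ⟨g, hg⟩
  · rw [hpt, hcardG]
    calc (inertia M θ).index * Nat.card (G ⧸ M) * (pt p (G ⧸ M) * pt p M) ^ 2
        = ((inertia M θ).index * pt p M ^ 2) * (Nat.card (G ⧸ M) * pt p (G ⧸ M) ^ 2) := by ring
      _ ≤ Nat.card M * (Nat.card (G ⧸ M) * pt p (G ⧸ M) ^ 2) := Nat.mul_le_mul_right _ h4
      _ = Nat.card (G ⧸ M) * Nat.card M * pt p (G ⧸ M) ^ 2 := by ring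
  · intro hT
    refine ⟨θ, χ, hθ, χ.2, hdM', hχ, fun g n => ?_, ?_⟩
    · have hg : g ∈ inertia M θ := by rw [hT]; exact Subgroup.mem_top g
      exact hg n
    · intro hM'
      rw [Subsingleton.elim hM' hM]
      exact hne

end Cfsg.Agent.H150.DM
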